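import Cfsg.Agent.Lib.SuThreeSpec.Check
import Cfsg.Agent.Lib.SuSpec.Elements

/-!
# Element orders of `PSU(3, 3)`
-/

set_option autoImplicit false

namespace Cfsg.Agent.Lib.SuThreeSpec

open Cfsg.Agent.Lib.Classical Cfsg.Agent.Lib.SuSpec
open scoped Matrix

theorem fm_table : ∀ x < 9, ∀ y < 9, fm x y < 9 ∧
    fm x y % 3 % 3 = (x % 3 * (y % 3) + 2 * (x / 3 * (y / 3))) % 3 ∧
    fm x y / 3 % 3 = (x % 3 * (y / 3) + x / 3 * (y % 3)) % 3 := by
  decide +kernel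

theorem fa_table : ∀ x < 9, ∀ y < 9, fa x y < 9 ∧
    fa x y % 3 % 3 = (x % 3 + y % 3) % 3 ∧ fa x y / 3 % 3 = (x / 3 + y / 3) % 3 := by
  decide +kernel

theorem fc_table : ∀ x < 9, fc x < 9 ∧ fc x % 3 % 3 = x % 3 ∧ fc x / 3 % 3 = 2 * (x / 3) % 3 := by
  decide +kernel

variable {F : Type*} [Field F] [CharP F 3] {i : F}

/-- The element with a given code. -/
def dec (i : F) (k : ℕ) : F := ((k % 3 : ℕ) : F) + ((k / 3 : ℕ) : F) * i

theorem cast_eq_of_mod {a b : ℕ} (h : a % 3 = b % 3) : (a : F) = (b : F) :=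
  (CharP.natCast_eq_natCast F 3).2 h

theorem dec_fm (hi : i * i = -1) {x y : ℕ} (hx : x < 9) (hy : y < 9) :
    dec i (fm x y) = dec i x * dec i y := by
  obtain ⟨-, h1, h2⟩ := fm_table x hx y hy
  have h3 : ((3 : ℕ) : F) = 0 := CharP.cast_eq_zero F 3
  simp only [dec, cast_eq_of_mod (F := F) h1, cast_eq_of_mod (F := F) h2]
  push_cast at h3 ⊢
  linear_combination (((x / 3 : ℕ) : F) * ((y / 3 : ℕ) : F)) * h3 -
    (((x / 3 : ℕ) : F) * ((y / 3 : ℕ) : F)) * hi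

theorem dec_fa {x y : ℕ} (hx : x < 9) (hy : y < 9) : dec i (fa x y) = dec i x + dec i y := by
  obtain ⟨-, h1, h2⟩ := fa_table x hx y hy
  simp only [dec, cast_eq_of_mod (F := F) h1, cast_eq_of_mod (F := F) h2]
  push_cast
  ring

theorem dec_fc (hi : i * i = -1) {x : ℕ} (hx : x < 9) : dec i (fc x) = dec i x ^ 3 := by
  obtain ⟨-, h1, h2⟩ := fc_table x hx
  simp only [dec, cast_eq_of_mod (F := F) (b := x % 3) (h1.trans (Nat.mod_mod _ _).symm),
    cast_eq_of_mod (F := F) h2]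
  have hxb : x / 3 < 3 := by omega
  generalize x / 3 = B at hxb ⊢
  have hc : ∀ k < 3, ((k : ℕ) : F) ^ 3 = (k : F) := by
    intro k hk
    rw [← Nat.cast_pow]
    refine cast_eq_of_mod ?_
    interval_cases k <;> rfl
  rw [add_pow_char, mul_pow, hc _ (Nat.mod_lt _ (by norm_num)), hc _ hxb]
  have h3 : ((3 : ℕ) : F) = 0 := CharP.cast_eq_zero F 3
  push_cast at h3 ⊢
  linear_combination ((B : F) * i) * h3 - ((B : F) * i) * hi

theorem dec_zero : dec i 0 = 0 := by simp [dec]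

theorem dec_one : dec i 1 = 1 := by simp [dec]

theorem dec_inj (hi : i * i = -1) {x y : ℕ} (hx : x < 9) (hy : y < 9) (h : dec i x = dec i y) :
    x = y := by
  let φ : ZMod 3 →+* F := ZMod.castHom (dvd_refl 3) F
  have hφ : ∀ n : ℕ, φ (n : ZMod 3) = (n : F) := fun n => map_natCast φ n
  have hinj : Function.Injective φ := φ.injective
  simp only [dec, ← hφ] at h
  have hnosq : ∀ c : ZMod 3, c * c ≠ -1 := by decide
  by_cases hb : ((x / 3 : ℕ) : ZMod 3) = ((y / 3 : ℕ) : ZMod 3)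
  · rw [hb, add_left_inj] at h
    have ha := (ZMod.natCast_eq_natCast_iff' _ _ _).1 (hinj h)
    have hb' := (ZMod.natCast_eq_natCast_iff' _ _ _).1 hb
    omega
  · exfalso
    set A := ((x % 3 : ℕ) : ZMod 3) - ((y % 3 : ℕ) : ZMod 3)
    set B := ((y / 3 : ℕ) : ZMod 3) - ((x / 3 : ℕ) : ZMod 3)
    have hB : B ≠ 0 := sub_ne_zero.2 (Ne.symm hb)
    have hA : φ A = φ B * i := by
      simp only [A, B, map_sub]
      linear_combination h
    have hi' : i = φ (A * B⁻¹) := by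
      rw [map_mul, map_inv₀, hA, mul_comm (φ B) i, mul_assoc,
        mul_inv_cancel₀ ((map_ne_zero φ).2 hB), mul_one]
    refine hnosq (A * B⁻¹) (hinj ?_)
    rw [map_mul, ← hi', hi, map_neg, map_one]

variable [Fintype F]

theorem dec_surj (hF : Fintype.card F = 9) (hi : i * i = -1) (z : F) : ∃ k < 9, dec i k = z := by
  have hbij : Function.Bijective (fun k : Fin 9 => dec i k) :=
    (Fintype.bijective_iff_injective_and_card _).2
      ⟨fun a b h => Fin.ext (dec_inj hi a.isLt b.isLt h), by simp [hF]⟩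
  obtain ⟨k, hk⟩ := hbij.2 z
  exact ⟨k, k.isLt, hk⟩

/-- The column with given codes. -/
def vecOf (i : F) (u : V3) : Fin 3 → F := ![dec i u.a, dec i u.b, dec i u.c]

/-- The matrix with given columns of codes. -/
def toM (i : F) (M : M9) : Matrix (Fin 3) (Fin 3) F :=
  Matrix.of fun r c => ![vecOf i M.x, vecOf i M.y, vecOf i M.z] c r

omit [Fintype F] in
theorem dot_spec (hi : i * i = -1) {u v : V3} (hu : u.Ok) (hv : v.Ok) :
    dot u v < 9 ∧ dec i (dot u v) = ∑ r, vecOf i u r * vecOf i v r ^ 3 := by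
  obtain ⟨a1, a2, a3⟩ := hu
  obtain ⟨b1, b2, b3⟩ := hv
  have c1 := (fc_table _ b1).1
  have c2 := (fc_table _ b2).1
  have c3 := (fc_table _ b3).1
  have m1 := (fm_table _ a1 _ c1).1
  have m2 := (fm_table _ a2 _ c2).1
  have m3 := (fm_table _ a3 _ c3).1
  have s1 := (fa_table _ m1 _ m2).1
  refine ⟨(fa_table _ s1 _ m3).1, ?_⟩
  rw [dot, dec_fa s1 m3, dec_fa m1 m2, dec_fm hi a1 c1, dec_fm hi a2 c2, dec_fm hi a3 c3,
    dec_fc hi b1, dec_fc hi b2, dec_fc hi b3, Fin.sum_univ_three]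
  rfl

omit [Fintype F] in
theorem mv_spec (hi : i * i = -1) {M : M9} {v : V3} (hM : M.Ok) (hv : v.Ok) :
    (mv M v).Ok ∧ vecOf i (mv M v) = toM i M *ᵥ vecOf i v := by
  obtain ⟨⟨x1, x2, x3⟩, ⟨y1, y2, y3⟩, z1, z2, z3⟩ := hM
  obtain ⟨v1, v2, v3⟩ := hv
  have row : ∀ {p q r : ℕ}, p < 9 → q < 9 → r < 9 →
      fa (fa (fm p v.a) (fm q v.b)) (fm r v.c) < 9 ∧
        dec i (fa (fa (fm p v.a) (fm q v.b)) (fm r v.c)) =
          dec i p * dec i v.a + dec i q * dec i v.b + dec i r * dec i v.c := by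
    intro p q r hp hq hr
    have m1 := (fm_table _ hp _ v1).1
    have m2 := (fm_table _ hq _ v2).1
    have m3 := (fm_table _ hr _ v3).1
    have s1 := (fa_table _ m1 _ m2).1
    exact ⟨(fa_table _ s1 _ m3).1,
      by rw [dec_fa s1 m3, dec_fa m1 m2, dec_fm hi hp v1, dec_fm hi hq v2, dec_fm hi hr v3]⟩
  refine ⟨⟨(row x1 y1 z1).1, (row x2 y2 z2).1, (row x3 y3 z3).1⟩, ?_⟩
  funext r
  rw [Matrix.mulVec, dotProduct, Fin.sum_univ_three]
  fin_cases r
  · exact (row x1 y1 z1).2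
  · exact (row x2 y2 z2).2
  · exact (row x3 y3 z3).2

omit [Fintype F] in
theorem mm_spec (hi : i * i = -1) {M N : M9} (hM : M.Ok) (hN : N.Ok) :
    (mm M N).Ok ∧ toM i (mm M N) = toM i M * toM i N := by
  obtain ⟨h1, e1⟩ := mv_spec hi hM hN.1
  obtain ⟨h2, e2⟩ := mv_spec hi hM hN.2.1
  obtain ⟨h3, e3⟩ := mv_spec hi hM hN.2.2
  refine ⟨⟨h1, h2, h3⟩, ?_⟩
  ext r c
  fin_cases c
  · exact congrFun e1 r
  · exact congrFun e2 r
  · exact congrFun e3 r

omit [Fintype F] in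
theorem isId_iff (hi : i * i = -1) {M : M9} (hM : M.Ok) : isId M = true ↔ toM i M = 1 := by
  obtain ⟨⟨x1, x2, x3⟩, ⟨y1, y2, y3⟩, z1, z2, z3⟩ := hM
  simp only [isId, Bool.and_eq_true, Nat.beq_eq]
  constructor
  · rintro ⟨⟨⟨⟨⟨⟨⟨⟨h1, h2⟩, h3⟩, h4⟩, h5⟩, h6⟩, h7⟩, h8⟩, h9⟩
    ext r c
    fin_cases r <;> fin_cases c <;>
      simp [toM, vecOf, h1, h2, h3, h4, h5, h6, h7, h8, h9, dec_zero, dec_one]
  · intro h
    have e : ∀ r c, toM i M r c = if r = c then dec i 1 else dec i 0 := fun r c => by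
      rw [h, Matrix.one_apply, dec_one, dec_zero]
    exact ⟨⟨⟨⟨⟨⟨⟨⟨dec_inj hi x1 (by norm_num) (e 0 0), dec_inj hi x2 (by norm_num) (e 1 0)⟩,
      dec_inj hi x3 (by norm_num) (e 2 0)⟩, dec_inj hi y1 (by norm_num) (e 0 1)⟩,
      dec_inj hi y2 (by norm_num) (e 1 1)⟩, dec_inj hi y3 (by norm_num) (e 2 1)⟩,
      dec_inj hi z1 (by norm_num) (e 0 2)⟩, dec_inj hi z2 (by norm_num) (e 1 2)⟩,
      dec_inj hi z3 (by norm_num) (e 2 2)⟩

omit [Fintype F] in
theorem det_spec (hi : i * i = -1) {M : M9} (hM : M.Ok) :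
    detC M < 9 ∧ dec i (detC M) = (toM i M).det := by
  obtain ⟨⟨x1, x2, x3⟩, ⟨y1, y2, y3⟩, z1, z2, z3⟩ := hM
  have m : ∀ {x y z : ℕ}, x < 9 → y < 9 → z < 9 →
      fm (fm x y) z < 9 ∧ dec i (fm (fm x y) z) = dec i x * dec i y * dec i z := fun hx hy hz => by
    have h1 := (fm_table _ hx _ hy).1
    exact ⟨(fm_table _ h1 _ hz).1, by rw [dec_fm hi h1 hz, dec_fm hi hx hy]⟩
  have s3 : ∀ {a b c : ℕ}, a < 9 → b < 9 → c < 9 →
      fa (fa a b) c < 9 ∧ dec i (fa (fa a b) c) = dec i a + dec i b + dec i c := fun ha hb hc => by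
    have h1 := (fa_table _ ha _ hb).1
    exact ⟨(fa_table _ h1 _ hc).1, by rw [dec_fa h1 hc, dec_fa ha hb]⟩
  have p := s3 (m x1 y2 z3).1 (m y1 z2 x3).1 (m z1 x2 y3).1
  have n := s3 (m z1 y2 x3).1 (m y1 x2 z3).1 (m x1 z2 y3).1
  have n' := (fm_table 2 (by norm_num) _ n.1).1
  refine ⟨(fa_table _ p.1 _ n').1, ?_⟩
  show dec i (fa (fa (fa _ _) _) (fm 2 (fa (fa _ _) _))) = _
  rw [dec_fa p.1 n', p.2, dec_fm hi (by norm_num) n.1, n.2, (m x1 y2 z3).2, (m y1 z2 x3).2,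
    (m z1 x2 y3).2, (m z1 y2 x3).2, (m y1 x2 z3).2, (m x1 z2 y3).2, Matrix.det_fin_three]
  have h2 : dec i 2 = -1 := by
    have h3 : ((3 : ℕ) : F) = 0 := CharP.cast_eq_zero F 3
    simp [dec]
    push_cast at h3
    linear_combination h3
  rw [h2]
  simp [toM, vecOf]
  ring

theorem hF' (hF : Fintype.card F = 9) : Fintype.card F = 3 ^ 2 := by rw [hF]; rfl

/-- Every element of `SU(3, 3)` has a code that passes the check. -/
theorem exists_code (hF : Fintype.card F = 9) (hi : i * i = -1) (g : Cfsg.SU 3 F 3) :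
    ∃ M : M9, M.Ok ∧ toM i M = mat g ∧ ordOk M = true := by
  choose k hk hke using fun r c => dec_surj hF hi (mat g r c)
  let M : M9 := ⟨⟨k 0 0, k 1 0, k 2 0⟩, ⟨k 0 1, k 1 1, k 2 1⟩, ⟨k 0 2, k 1 2, k 2 2⟩⟩
  have hM : M.Ok := ⟨⟨hk _ _, hk _ _, hk _ _⟩, ⟨hk _ _, hk _ _, hk _ _⟩, hk _ _, hk _ _, hk _ _⟩
  have he : toM i M = mat g := by
    ext r c
    fin_cases r <;> fin_cases c <;> exact hke _ _
  refine ⟨M, hM, he, ?_⟩
  have hg := (mem_SU_iff (hF' hF) g.1).1 g.2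
  have hrel : ∀ a b : Fin 3, ∑ r, mat g r a * mat g r b ^ 3 = if a = b then 1 else 0 := by
    intro a b
    have := congrFun (congrFun hg a) b
    rw [Matrix.mul_apply, Matrix.one_apply] at this
    simpa [mat, conjHom_apply] using this
  have hdot : ∀ {u v : V3} (a b : Fin 3), u.Ok → v.Ok → (∀ r, vecOf i u r = mat g r a) →
      (∀ r, vecOf i v r = mat g r b) → dot u v = if a = b then 1 else 0 := by
    intro u v a b hu hv hua hvb
    obtain ⟨hlt, hd⟩ := dot_spec hi hu hv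
    simp only [hua, hvb, hrel a b] at hd
    split_ifs at hd ⊢
    · exact dec_inj hi hlt (by norm_num) (hd.trans dec_one.symm)
    · exact dec_inj hi hlt (by norm_num) (hd.trans dec_zero.symm)
  have cx : ∀ r, vecOf i M.x r = mat g r 0 := fun r => by rw [← he]; rfl
  have cy : ∀ r, vecOf i M.y r = mat g r 1 := fun r => by rw [← he]; rfl
  have cz : ∀ r, vecOf i M.z r = mat g r 2 := fun r => by rw [← he]; rfl
  have hdet : detC M = 1 := by
    obtain ⟨hlt, hd⟩ := det_spec hi hM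
    refine dec_inj hi hlt (by norm_num) (hd.trans ?_)
    rw [he, dec_one]
    exact g.1.2
  have hunit : ∀ {v : V3}, v.Ok → dot v v = 1 → v ∈ unitList := by
    rintro ⟨a, b, c⟩ ⟨h1, h2, h3⟩ hv
    dsimp only at h1 h2 h3
    refine List.mem_filter.2 ⟨List.mem_map.2 ⟨a + 9 * b + 81 * c,
      List.mem_range.2 (by omega), ?_⟩, by rw [hv]; rfl⟩
    simp only [V3.mk.injEq]
    omega
  have h := all_ok
  simp only [allOk, List.all_eq_true] at h
  have h0 := h M.x (hunit hM.1 (hdot 0 0 hM.1 hM.1 cx cx)) M.y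
    (List.mem_filter.2 ⟨hunit hM.2.1 (hdot 1 1 hM.2.1 hM.2.1 cy cy),
      by rw [hdot 0 1 hM.1 hM.2.1 cx cy]; rfl⟩) M.z
    (List.mem_filter.2 ⟨List.mem_filter.2 ⟨hunit hM.2.2 (hdot 2 2 hM.2.2 hM.2.2 cz cz),
      by rw [hdot 0 2 hM.1 hM.2.2 cx cz]; rfl⟩, by rw [hdot 1 2 hM.2.1 hM.2.2 cy cz]; rfl⟩)
  rw [show (⟨M.x, M.y, M.z⟩ : M9) = M from rfl, hdet] at h0
  simpa using h0

/-- Elements of `SU(3, 3)` have orders dividing 7, 8 or 12. -/
theorem su_order_spec (hF : Fintype.card F = 9) (hi : i * i = -1) (g : Cfsg.SU 3 F 3) :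
    g ^ 7 = 1 ∨ g ^ 8 = 1 ∨ g ^ 12 = 1 := by
  obtain ⟨M, hM, he, ho⟩ := exists_code hF hi g
  obtain ⟨k2, e2⟩ := mm_spec (i := i) hi hM hM
  obtain ⟨k4, e4⟩ := mm_spec (i := i) hi k2 k2
  obtain ⟨k8, e8⟩ := mm_spec (i := i) hi k4 k4
  obtain ⟨k12, e12⟩ := mm_spec (i := i) hi k8 k4
  obtain ⟨k6, e6⟩ := mm_spec (i := i) hi k4 k2
  obtain ⟨k7, e7⟩ := mm_spec (i := i) hi k6 hM
  have hone : ∀ n, mat g ^ n = 1 → g ^ n = 1 := fun n hn => by
    apply Subtype.ext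
    apply Subtype.ext
    rw [← show mat (g ^ n) = ((g ^ n).1 : Matrix (Fin 3) (Fin 3) F) from rfl, mat_pow, hn]
    rfl
  simp only [ordOk, Bool.or_eq_true] at ho
  rcases ho with (h | h) | h
  · refine Or.inr (Or.inl (hone 8 ?_))
    rw [← (isId_iff hi k8).1 h, e8, e4, e2, he]
    simp only [← pow_two, ← pow_mul, Nat.reduceMul, Nat.reducePow]
  · refine Or.inr (Or.inr (hone 12 ?_))
    rw [← (isId_iff hi k12).1 h, e12, e8, e4, e2, he]
    simp only [← pow_two, ← pow_mul, ← pow_add, Nat.reduceMul, Nat.reduceAdd, Nat.reducePow]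
  · refine Or.inl (hone 7 ?_)
    rw [← (isId_iff hi k7).1 h, e7, e6, e4, e2, he]
    simp only [← pow_two, ← pow_mul, ← pow_add, ← pow_succ, Nat.reduceMul, Nat.reduceAdd, Nat.reducePow]

/-- A coded isometry as an element of `SU(3, 3)`. -/
theorem exists_elem (hF : Fintype.card F = 9) (hi : i * i = -1) {M : M9} (hM : M.Ok)
    (h : isIso M = true) : ∃ g : Cfsg.SU 3 F 3, mat g = toM i M := by
  simp only [isIso, Bool.and_eq_true, Nat.beq_eq] at h
  obtain ⟨⟨⟨⟨⟨⟨⟨⟨⟨xx, yy⟩, zz⟩, xy⟩, xz⟩, yz⟩, yx⟩, zx⟩, zy⟩, hd⟩ := h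
  have hdet : (toM i M).det = 1 := by rw [← (det_spec hi hM).2, hd, dec_one]
  refine ⟨⟨⟨toM i M, hdet⟩, (mem_SU_iff (hF' hF) _).2 ?_⟩, rfl⟩
  ext a b
  have key : ∀ {u v : V3} {n : ℕ}, u.Ok → v.Ok → dot u v = n →
      ∑ r, vecOf i u r * vecOf i v r ^ 3 = dec i n := fun hu hv hn => by
    rw [← (dot_spec hi hu hv).2, hn]
  rw [Matrix.mul_apply]
  simp only [Matrix.transpose_apply, Matrix.map_apply, conjHom_apply]
  obtain ⟨ox, oy, oz⟩ := hM
  fin_cases a <;> fin_cases b <;>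
    [exact (key ox ox xx).trans dec_one; exact (key ox oy xy).trans dec_zero;
     exact (key ox oz xz).trans dec_zero; exact (key oy ox yx).trans dec_zero;
     exact (key oy oy yy).trans dec_one; exact (key oy oz yz).trans dec_zero;
     exact (key oz ox zx).trans dec_zero; exact (key oz oy zy).trans dec_zero;
     exact (key oz oz zz).trans dec_one]

/-- The centre of `SU(3, 3)` is trivial. -/
theorem center_eq_bot (hF : Fintype.card F = 9) : Subgroup.center (Cfsg.SU 3 F 3) = ⊥ := by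
  rw [Subgroup.eq_bot_iff_forall]
  intro z hz
  have h := SU_center_scalar (hF' hF) z hz (0 : Fin 3)
  have hdet : (z.1 : Matrix (Fin 3) (Fin 3) F).det = 1 := z.1.2
  apply Subtype.ext
  apply Subtype.ext
  rw [h] at hdet ⊢
  rw [Matrix.det_smul, Matrix.det_one, mul_one, Fintype.card_fin] at hdet
  set c := (z.1 : Matrix (Fin 3) (Fin 3) F) 0 0
  have hc : (c - 1) ^ 3 = 0 := by rw [sub_pow_char, hdet, one_pow, sub_self]
  rw [sub_eq_zero.1 (eq_zero_of_pow_eq_zero hc), one_smul]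
  rfl

/-- **The element orders of `PSU(3, 3)`.** -/
theorem psu_spec (hF : Fintype.card F = 9) :
    (∀ g : Cfsg.PSU 3 F 3, g ^ 7 = 1 ∨ g ^ 8 = 1 ∨ g ^ 12 = 1) ∧
      (∃ g : Cfsg.PSU 3 F 3, orderOf g = 7) ∧ (∃ g : Cfsg.PSU 3 F 3, orderOf g = 8) ∧
      ∃ g : Cfsg.PSU 3 F 3, orderOf g = 12 := by
  obtain ⟨i, hi'⟩ := FiniteField.isSquare_neg_one_iff.2 (by rw [hF]; norm_num : Fintype.card F % 4 ≠ 3)
  have hi : i * i = -1 := hi'.symm
  have hq : ∀ g : Cfsg.SU 3 F 3, orderOf (QuotientGroup.mk g : Cfsg.PSU 3 F 3) = orderOf g := by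
    intro g
    refine orderOf_injective (QuotientGroup.mk' _) ?_ g
    rw [← MonoidHom.ker_eq_bot_iff, QuotientGroup.ker_mk', center_eq_bot hF]
  have hp : ∀ (g : Cfsg.SU 3 F 3) (n : ℕ), g ^ n = 1 → (QuotientGroup.mk g : Cfsg.PSU 3 F 3) ^ n = 1 :=
    fun g n h => by rw [← QuotientGroup.mk_pow, h]; rfl
  have wok : seven.Ok ∧ eight.Ok ∧ twelve.Ok := by
    simp [seven, eight, twelve, M9.Ok, V3.Ok]
  obtain ⟨o7, o8, o12⟩ := wok
  obtain ⟨w7, w8, w12⟩ := witnesses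
  simp only [Bool.and_eq_true, Bool.not_eq_true'] at w7 w8 w12
  have mk1 : ∀ {M : M9} {g : Cfsg.SU 3 F 3}, M.Ok → ∀ {n : ℕ}, toM i M = mat g ^ n →
      (isId M = true ↔ g ^ n = 1) := by
    intro M g hM n hn
    rw [isId_iff hi hM, hn, ← mat_pow]
    exact ⟨fun h => Subtype.ext (Subtype.ext h), fun h => by rw [h]; rfl⟩
  refine ⟨fun g => ?_, ?_, ?_, ?_⟩
  · induction g using QuotientGroup.induction_on with
    | H g => exact (su_order_spec hF hi g).imp (hp g 7) (Or.imp (hp g 8) (hp g 12))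
  · obtain ⟨⟨hiso, hne⟩, h1⟩ := w7
    obtain ⟨g, hg⟩ := exists_elem hF hi o7 hiso
    obtain ⟨k2, e2⟩ := mm_spec (i := i) hi o7 o7
    obtain ⟨k4, e4⟩ := mm_spec (i := i) hi k2 k2
    obtain ⟨k6, e6⟩ := mm_spec (i := i) hi k4 k2
    obtain ⟨k7, e7⟩ := mm_spec (i := i) hi k6 o7
    refine ⟨_, (hq g).trans (orderOf_eq_prime (hp := ⟨by norm_num⟩) ?_ ?_)⟩
    · refine (mk1 (M := mm (mm (sqM (sqM seven)) (sqM seven)) seven) k7 ?_).1 h1
      show toM i (mm (mm (mm (mm seven seven) (mm seven seven)) (mm seven seven)) seven) = _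
      rw [e7, e6, e4, e2, ← hg]
      simp only [← pow_two, ← pow_mul, ← pow_add, ← pow_succ, Nat.reduceMul, Nat.reduceAdd, Nat.reducePow]
    · intro h
      have := (mk1 (g := g) (n := 1) o7 (by rw [hg, pow_one])).2 (by rw [h, one_pow])
      simp [this] at hne
  · obtain ⟨⟨hiso, hne⟩, h1⟩ := w8
    obtain ⟨g, hg⟩ := exists_elem hF hi o8 hiso
    obtain ⟨k2, e2⟩ := mm_spec (i := i) hi o8 o8
    obtain ⟨k4, e4⟩ := mm_spec (i := i) hi k2 k2
    obtain ⟨k8, e8⟩ := mm_spec (i := i) hi k4 k4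
    have p4 : g ^ 4 ≠ 1 := fun h => by
      have := (mk1 (M := sqM (sqM eight)) (g := g) (n := 4) k4 (by
        show toM i (mm (mm eight eight) (mm eight eight)) = _
        rw [e4, e2, ← hg]; simp only [← pow_two, ← pow_mul, Nat.reduceMul, Nat.reducePow])).2 h
      simp [this] at hne
    refine ⟨_, (hq g).trans (orderOf_eq_prime_pow (hp := ⟨Nat.prime_two⟩) (n := 2) p4 ?_)⟩
    refine (mk1 (M := sqM (sqM (sqM eight))) k8 ?_).1 h1
    show toM i (mm (mm (mm eight eight) (mm eight eight)) (mm (mm eight eight) (mm eight eight))) = _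
    rw [e8, e4, e2, ← hg]
    simp only [← pow_two, ← pow_mul, Nat.reduceMul, Nat.reducePow]
    rfl
  · obtain ⟨⟨⟨hiso, hne4⟩, hne6⟩, h1⟩ := w12
    obtain ⟨g, hg⟩ := exists_elem hF hi o12 hiso
    obtain ⟨k2, e2⟩ := mm_spec (i := i) hi o12 o12
    obtain ⟨k4, e4⟩ := mm_spec (i := i) hi k2 k2
    obtain ⟨k8, e8⟩ := mm_spec (i := i) hi k4 k4
    obtain ⟨k12, e12⟩ := mm_spec (i := i) hi k8 k4
    obtain ⟨k6, e6⟩ := mm_spec (i := i) hi k4 k2
    have p4 : g ^ 4 ≠ 1 := fun h => by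
      have := (mk1 (M := sqM (sqM twelve)) (g := g) (n := 4) k4 (by
        show toM i (mm (mm twelve twelve) (mm twelve twelve)) = _
        rw [e4, e2, ← hg]; simp only [← pow_two, ← pow_mul, Nat.reduceMul, Nat.reducePow])).2 h
      simp [this] at hne4
    have p6 : g ^ 6 ≠ 1 := fun h => by
      have := (mk1 (M := mm (sqM (sqM twelve)) (sqM twelve)) (g := g) (n := 6) k6 (by
        show toM i (mm (mm (mm twelve twelve) (mm twelve twelve)) (mm twelve twelve)) = _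
        rw [e6, e4, e2, ← hg]; simp only [← pow_two, ← pow_mul, ← pow_add, Nat.reduceMul, Nat.reduceAdd, Nat.reducePow])).2 h
      simp [this] at hne6
    have p12 : g ^ 12 = 1 := by
      refine (mk1 (M := mm (sqM (sqM (sqM twelve))) (sqM (sqM twelve))) k12 ?_).1 h1
      show toM i (mm (mm (mm (mm twelve twelve) (mm twelve twelve))
        (mm (mm twelve twelve) (mm twelve twelve))) (mm (mm twelve twelve) (mm twelve twelve))) = _
      rw [e12, e8, e4, e2, ← hg]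
      simp only [← pow_two, ← pow_mul, ← pow_add, Nat.reduceMul, Nat.reduceAdd, Nat.reducePow]
    refine ⟨_, (hq g).trans ?_⟩
    have hd := orderOf_dvd_of_pow_eq_one p12
    have h4 : ¬ orderOf g ∣ 4 := fun h => p4 (orderOf_dvd_iff_pow_eq_one.1 h)
    have h6 : ¬ orderOf g ∣ 6 := fun h => p6 (orderOf_dvd_iff_pow_eq_one.1 h)
    have hle := Nat.le_of_dvd (by norm_num) hd
    interval_cases h' : orderOf g <;> omega

end Cfsg.Agent.Lib.SuThreeSpec
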