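import Cfsg.Agent.Lib.SuThreeSpec.Code

/-!
# The kernel check
-/

set_option autoImplicit false

namespace Cfsg.Agent.Lib.SuThreeSpec

theorem all_ok : allOk = true := by decide +kernel

/-- An element of order 7. -/
def seven : M9 := ⟨⟨0, 0, 1⟩, ⟨4, 4, 0⟩, ⟨5, 7, 0⟩⟩

/-- An element of order 8. -/
def eight : M9 := ⟨⟨0, 0, 1⟩, ⟨0, 3, 0⟩, ⟨3, 0, 0⟩⟩

/-- An element of order 12. -/
def twelve : M9 := ⟨⟨0, 0, 1⟩, ⟨4, 5, 0⟩, ⟨4, 7, 0⟩⟩

/-- Square. -/
def sqM (M : M9) : M9 := mm M M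

theorem witnesses :
    (isIso seven && !isId seven && isId (mm (mm (sqM (sqM seven)) (sqM seven)) seven)) = true ∧
    (isIso eight && !isId (sqM (sqM eight)) && isId (sqM (sqM (sqM eight)))) = true ∧
    (isIso twelve && !isId (sqM (sqM twelve)) && !isId (mm (sqM (sqM twelve)) (sqM twelve)) &&
      isId (mm (sqM (sqM (sqM twelve))) (sqM (sqM twelve)))) = true := by
  decide +kernel

end Cfsg.Agent.Lib.SuThreeSpec
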