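import Mathlib.Data.List.Basic
import Mathlib.Tactic.Common

/-!
# Arithmetic of the field with nine elements and of 3 × 3 matrices over it, on codes

`a + 3 * b` codes `a + b i` with `i * i = -1`.
-/

set_option autoImplicit false

namespace Cfsg.Agent.Lib.SuThreeSpec

/-- The table of products. -/
def mulT : ℕ := 12992295474418726299168584010125499800446975643965808714274855111902658395364003326119775607717888

/-- The table of sums. -/
def addT : ℕ := 8986690708024339884259668388453865091868182506470258411551265922896781674643265104972283578167824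

/-- The table of conjugates. -/
def cjT : ℕ := 22607782416

/-- Product of codes. -/
def fm (x y : ℕ) : ℕ := Nat.land (Nat.shiftRight mulT (4 * (9 * x + y))) 15

/-- Sum of codes. -/
def fa (x y : ℕ) : ℕ := Nat.land (Nat.shiftRight addT (4 * (9 * x + y))) 15

/-- Conjugate of a code. -/
def fc (x : ℕ) : ℕ := Nat.land (Nat.shiftRight cjT (4 * x)) 15

/-- A column. -/
structure V3 where
  a : ℕ
  b : ℕ
  c : ℕ

/-- All codes are below nine. -/
def V3.Ok (u : V3) : Prop := u.a < 9 ∧ u.b < 9 ∧ u.c < 9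

/-- The hermitian product. -/
def dot (u v : V3) : ℕ := fa (fa (fm u.a (fc v.a)) (fm u.b (fc v.b))) (fm u.c (fc v.c))

/-- The norm one columns. -/
def unitList : List V3 :=
  ((List.range 729).map fun k => V3.mk (k % 9) (k / 9 % 9) (k / 81)).filter fun v =>
    Nat.beq (dot v v) 1

/-- A matrix, given by its columns. -/
structure M9 where
  x : V3
  y : V3
  z : V3

/-- All codes are below nine. -/
def M9.Ok (M : M9) : Prop := M.x.Ok ∧ M.y.Ok ∧ M.z.Ok

/-- A matrix applied to a column. -/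
def mv (M : M9) (v : V3) : V3 :=
  ⟨fa (fa (fm M.x.a v.a) (fm M.y.a v.b)) (fm M.z.a v.c),
   fa (fa (fm M.x.b v.a) (fm M.y.b v.b)) (fm M.z.b v.c),
   fa (fa (fm M.x.c v.a) (fm M.y.c v.b)) (fm M.z.c v.c)⟩

/-- Product of matrices. -/
def mm (M N : M9) : M9 := ⟨mv M N.x, mv M N.y, mv M N.z⟩

/-- Is it the identity? -/
def isId (M : M9) : Bool :=
  Nat.beq M.x.a 1 && Nat.beq M.x.b 0 && Nat.beq M.x.c 0 &&
  Nat.beq M.y.a 0 && Nat.beq M.y.b 1 && Nat.beq M.y.c 0 &&
  Nat.beq M.z.a 0 && Nat.beq M.z.b 0 && Nat.beq M.z.c 1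

/-- The determinant. -/
def detC (M : M9) : ℕ :=
  let m := fun x y z => fm (fm x y) z
  fa (fa (fa (m M.x.a M.y.b M.z.c) (m M.y.a M.z.b M.x.c)) (m M.z.a M.x.b M.y.c))
    (fm 2 (fa (fa (m M.z.a M.y.b M.x.c) (m M.y.a M.x.b M.z.c)) (m M.x.a M.z.b M.y.c)))

/-- `M ^ 8`, `M ^ 12` or `M ^ 7` is the identity. -/
def ordOk (M : M9) : Bool :=
  let M2 := mm M M
  let M4 := mm M2 M2
  let M8 := mm M4 M4
  isId M8 || isId (mm M8 M4) || isId (mm (mm M4 M2) M)

/-- The check on all isometries of determinant one. -/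
def allOk : Bool :=
  unitList.all fun a =>
    let O := unitList.filter fun b => Nat.beq (dot a b) 0
    O.all fun b => (O.filter fun c => Nat.beq (dot b c) 0).all fun c =>
      !(Nat.beq (detC ⟨a, b, c⟩) 1) || ordOk ⟨a, b, c⟩

/-- The orthonormality of the columns and the determinant. -/
def isIso (M : M9) : Bool :=
  Nat.beq (dot M.x M.x) 1 && Nat.beq (dot M.y M.y) 1 && Nat.beq (dot M.z M.z) 1 &&
  Nat.beq (dot M.x M.y) 0 && Nat.beq (dot M.x M.z) 0 && Nat.beq (dot M.y M.z) 0 &&
  Nat.beq (dot M.y M.x) 0 && Nat.beq (dot M.z M.x) 0 && Nat.beq (dot M.z M.y) 0 &&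
  Nat.beq (detC M) 1

end Cfsg.Agent.Lib.SuThreeSpec
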