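import Cfsg.Agent.Lib.Characters.Induced
import Cfsg.Agent.Lib.Characters.Ortho
import Cfsg.Agent.Lib.Perm.TwoRowChars
import Cfsg.Agent.Lib.BlockHeights.CharTools
import Mathlib.RingTheory.RootsOfUnity.Complex
import Mathlib.Analysis.SpecialFunctions.Complex.Circle

/-!
# Certified inner products of monomial characters

A finite group is given through a coding of its elements. A subgroup with a linear character with
values in the 24th roots of unity is given by a tree of codes and exponents, and the inner products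
of the induced characters are read off a histogram of exponents.
-/

set_option autoImplicit false

namespace Cfsg.Agent.Lib.SuThreeSpec.Monomial

open Cfsg Cfsg.Agent.Lib.Characters
open scoped ComplexConjugate

/-! ## The 24th root of unity -/

/-- The root of unity. -/
noncomputable def ζ : ℂ := Complex.exp (2 * Real.pi * Complex.I / (24 : ℕ))

theorem ζ_prim : IsPrimitiveRoot ζ 24 := Complex.isPrimitiveRoot_exp 24 (by norm_num)

theorem ζ_pow : ζ ^ 24 = 1 := ζ_prim.pow_eq_one

theorem ζ_mod (e : ℕ) : ζ ^ e = ζ ^ (e % 24) := by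
  conv_lhs => rw [← Nat.mod_add_div e 24, pow_add, pow_mul, ζ_pow, one_pow, mul_one]

theorem ζ_twelve : ζ ^ 12 = -1 := by
  have h : ζ ^ 12 * ζ ^ 12 = 1 := by rw [← pow_add]; exact ζ_pow
  exact (mul_self_eq_one_iff.1 h).resolve_left
    (ζ_prim.pow_ne_one_of_pos_of_lt (by norm_num) (by norm_num))

theorem ζ_eight : ζ ^ 8 = ζ ^ 4 - 1 := by
  have h : (ζ ^ 4 + 1) * ((ζ ^ 4) ^ 2 - ζ ^ 4 + 1) = 0 := by
    linear_combination ζ_twelve
  have hne : ζ ^ 4 + 1 ≠ 0 := fun h0 =>
    ζ_prim.pow_ne_one_of_pos_of_lt (l := 8) (by norm_num) (by norm_num)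
      (by linear_combination (ζ ^ 4 - 1) * h0)
  have h2 := (mul_eq_zero.1 h).resolve_left hne
  linear_combination h2

theorem conj_ζ_pow (e : ℕ) : conj (ζ ^ e) = ζ ^ (23 * e) := by
  have hn : ‖ζ‖ = 1 := ζ_prim.norm'_eq_one (by norm_num)
  have h23 : ζ⁻¹ = ζ ^ 23 := inv_eq_of_mul_eq_one_right (by rw [← pow_succ']; exact ζ_pow)
  rw [map_pow, ← Complex.inv_eq_conj hn, h23, ← pow_mul]

/-- The count of an exponent modulo 24. -/
def cnt (L : List ℕ) (k : ℕ) : ℤ := ((L.map fun e => e % 24).count k : ℕ)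

/-- The half counts. -/
def half (L : List ℕ) (k : ℕ) : ℤ := cnt L k - cnt L (k + 12)

/-- The sum of the roots is the integer `N`. -/
def sumIs (L : List ℕ) (N : ℤ) : Bool :=
  let c := L.map fun e => e % 24
  let d := fun k => (c.count k : ℤ) - (c.count (k + 12) : ℤ)
  (List.range 4).all fun k =>
    (d k - d (k + 8) == if k = 0 then N else 0) && (d (k + 4) + d (k + 8) == 0)

theorem map_sum_eq (L : List ℕ) :
    (L.map fun e => ζ ^ e).sum = ∑ k ∈ Finset.range 24, (cnt L k : ℂ) * ζ ^ k := by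
  induction L with
  | nil => simp [cnt]
  | cons a L ih =>
    have hk : ∀ k, (cnt (a :: L) k : ℂ) = cnt L k + if a % 24 = k then 1 else 0 := fun k => by
      simp only [cnt, List.map_cons, List.count_cons]
      by_cases h : a % 24 = k <;> simp [h]
    simp only [List.map_cons, List.sum_cons, ih, hk, add_mul, Finset.sum_add_distrib, ite_mul,
      one_mul, zero_mul, Finset.sum_ite_eq, Finset.mem_range, Nat.mod_lt a (by norm_num : 24 > 0),
      if_true, ← ζ_mod a]
    ring

theorem sum_eq_of_sumIs {L : List ℕ} {N : ℤ} (h : sumIs L N = true) :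
    (L.map fun e => ζ ^ e).sum = (N : ℂ) := by
  have hd : ∀ k ∈ List.range 4, half L k - half L (k + 8) = (if k = 0 then N else 0) ∧
      half L (k + 4) + half L (k + 8) = 0 := by
    intro k hk
    simp only [sumIs, List.all_eq_true, Bool.and_eq_true, beq_iff_eq] at h
    exact h k hk
  obtain ⟨a0, b0⟩ := hd 0 (by simp)
  obtain ⟨a1, b1⟩ := hd 1 (by simp)
  obtain ⟨a2, b2⟩ := hd 2 (by simp)
  obtain ⟨a3, b3⟩ := hd 3 (by simp)
  simp only [half, ↓reduceIte, Nat.zero_add, OfNat.ofNat_ne_zero, one_ne_zero, Nat.reduceAdd]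
    at a0 a1 a2 a3 b0 b1 b2 b3
  replace a0 := congrArg (Int.cast : ℤ → ℂ) a0
  replace a1 := congrArg (Int.cast : ℤ → ℂ) a1
  replace a2 := congrArg (Int.cast : ℤ → ℂ) a2
  replace a3 := congrArg (Int.cast : ℤ → ℂ) a3
  replace b0 := congrArg (Int.cast : ℤ → ℂ) b0
  replace b1 := congrArg (Int.cast : ℤ → ℂ) b1
  replace b2 := congrArg (Int.cast : ℤ → ℂ) b2
  replace b3 := congrArg (Int.cast : ℤ → ℂ) b3
  push_cast at a0 a1 a2 a3 b0 b1 b2 b3
  have hf : ∀ j, ζ ^ (j + 12) = -ζ ^ j := fun j => by rw [pow_add, ζ_twelve]; ring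
  have he : ∀ j, ζ ^ (j + 8) = ζ ^ (j + 4) - ζ ^ j := fun j => by
    rw [pow_add, ζ_eight, pow_add]; ring
  rw [map_sum_eq]
  simp only [Finset.sum_range_succ, Finset.sum_range_zero]
  rw [hf 0, hf 1, hf 2, hf 3, hf 4, hf 5, hf 6, hf 7, hf 8, hf 9, hf 10, hf 11,
    he 0, he 1, he 2, he 3]
  linear_combination a0 + ζ * a1 + ζ ^ 2 * a2 + ζ ^ 3 * a3 + ζ ^ 4 * b0 + ζ ^ 5 * b1 +
    ζ ^ 6 * b2 + ζ ^ 7 * b3

/-! ## Trees of codes -/

/-- A search tree of codes with exponents. -/
inductive BT
  | leaf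
  | node (l : BT) (k e : ℕ) (r : BT)

/-- Search. -/
def BT.look : BT → ℕ → Option ℕ
  | .leaf, _ => none
  | .node l k e r, x => if Nat.blt x k then l.look x else if Nat.beq x k then some e else r.look x

/-- The entries. -/
def BT.elems : BT → List (ℕ × ℕ)
  | .leaf => []
  | .node l k e r => l.elems ++ (k, e) :: r.elems

theorem BT.mem_of_look : ∀ {T : BT} {x e : ℕ}, T.look x = some e → (x, e) ∈ T.elems
  | .leaf, _, _, h => by simp [BT.look] at h
  | .node l k e' r, x, e, h => by
    rw [BT.look] at h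
    simp only [BT.elems, List.mem_append, List.mem_cons]
    split_ifs at h with h1 h2
    · exact Or.inl (BT.mem_of_look h)
    · obtain rfl : e' = e := Option.some.inj h
      obtain rfl : x = k := Nat.eq_of_beq_eq_true h2
      exact Or.inr (Or.inl rfl)
    · exact Or.inr (Or.inr (BT.mem_of_look h))

/-- Strictly increasing. -/
def incr : List ℕ → Bool
  | a :: b :: l => Nat.blt a b && incr (b :: l)
  | _ => true

theorem incr_pairwise : ∀ {l : List ℕ}, incr l = true → l.Pairwise (· < ·)
  | [], _ => List.Pairwise.nil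
  | [a], _ => List.pairwise_singleton _ a
  | a :: b :: l, h => by
    simp only [incr, Bool.and_eq_true, Nat.blt_eq] at h
    have ih := incr_pairwise h.2
    refine List.Pairwise.cons (fun c hc => ?_) ih
    rcases List.mem_cons.1 hc with rfl | hc
    · exact h.1
    · exact h.1.trans (List.rel_of_pairwise_cons ih hc)

/-! ## The checks -/

/-- A subgroup, a linear character on it and a transversal. -/
structure Datum where
  T : BT
  mult : ℕ
  tr : List (ℕ × ℕ × ℕ)

/-- The tree is a subgroup with a linear character. -/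
def treeOk (op : ℕ → ℕ → ℕ) (one : ℕ) (valid : ℕ → Bool) (T : BT) : Bool :=
  let E := T.elems
  incr (E.map Prod.fst) && (T.look one == some 0) &&
  (E.all fun a => valid a.1 && (T.look a.1 == some a.2)) &&
  E.all fun a => E.all fun b => T.look (op a.1 b.1) == some ((a.2 + b.2) % 24)

/-- The list is a transversal: least code, representative and inverse. -/
def transOk (op : ℕ → ℕ → ℕ) (one : ℕ) (valid : ℕ → Bool) (N : ℕ) (T : BT)
    (tr : List (ℕ × ℕ × ℕ)) : Bool :=
  let E := T.elems
  incr (tr.map Prod.fst) && Nat.beq (tr.length * E.length) N &&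
  tr.all fun r => valid r.1 && valid r.2.1 && valid r.2.2 && Nat.beq (op r.2.2 r.2.1) one &&
    (T.look (op r.2.2 r.1)).isSome && E.all fun a => Nat.ble r.1 (op r.2.1 a.1)

/-- The exponents in the inner product of two induced characters. -/
def ipList (op : ℕ → ℕ → ℕ) (D D' : Datum) : List ℕ :=
  D.T.elems.flatMap fun a => D'.tr.filterMap fun r =>
    (D'.T.look (op (op r.2.2 a.1) r.2.1)).map fun e => D.mult * a.2 + 23 * (D'.mult * e)

/-- The inner product of the two induced characters is `n`. -/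
def ipOk (op : ℕ → ℕ → ℕ) (D D' : Datum) (n : ℤ) : Bool :=
  sumIs (ipList op D D') (n * D.T.elems.length)

/-! ## The coded group -/

variable (G : Type*) [Group G]

/-- A coding of a group. -/
structure Model where
  op : ℕ → ℕ → ℕ
  one : ℕ
  valid : ℕ → Bool
  cd : G → ℕ
  inj : Function.Injective cd
  cd_one : cd 1 = one
  cd_mul : ∀ a b, cd (a * b) = op (cd a) (cd b)
  exists_valid : ∀ k, valid k = true → ∃ g, cd g = k

variable {G}
variable (Mo : Model G)

theorem sum_map_filterMap {α β : Type*} (l : List α) (f : α → Option β) (g : β → ℂ) :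
    ((l.filterMap f).map g).sum = (l.map fun a => ((f a).map g).getD 0).sum := by
  induction l with
  | nil => rfl
  | cons a l ih => cases h : f a <;> simp [List.filterMap_cons, h, ih]

/-- The value of the extended linear character at a code. -/
noncomputable def val (D : Datum) (k : ℕ) : ℂ :=
  ((D.T.look k).map fun e => ζ ^ (D.mult * e)).getD 0

theorem sum_ipList (op : ℕ → ℕ → ℕ) (D D' : Datum) :
    ((ipList op D D').map fun e => ζ ^ e).sum = (D.T.elems.map fun a => ζ ^ (D.mult * a.2) *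
      conj ((D'.tr.map fun r => val D' (op (op r.2.2 a.1) r.2.1)).sum)).sum := by
  rw [ipList]
  induction D.T.elems with
  | nil => rfl
  | cons a l ih =>
    rw [List.flatMap_cons, List.map_append, List.sum_append, ih, List.map_cons, List.sum_cons,
      sum_map_filterMap]
    congr 1
    induction D'.tr with
    | nil => simp
    | cons r t iht =>
      rw [List.map_cons, List.sum_cons, iht, List.map_cons, List.sum_cons, map_add, mul_add]
      congr 1
      simp only [val]
      cases D'.T.look (op (op r.2.2 a.1) r.2.1) with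
      | none => simp
      | some e => simp [conj_ζ_pow, pow_add]

variable [Fintype G]
variable {D : Datum} (hT : treeOk Mo.op Mo.one Mo.valid D.T = true)

/-- The subgroup. -/
def sub (D : Datum) : Subgroup G where
  toSubmonoid := Submonoid.closure {g : G | (D.T.look (Mo.cd g)).isSome = true}
  inv_mem' {g} hg := by
    show g⁻¹ ∈ Submonoid.closure _
    rw [inv_eq_of_mul_eq_one_right
      (show g * g ^ (orderOf g - 1) = 1 by
        rw [← pow_succ', Nat.sub_add_cancel (orderOf_pos g), pow_orderOf_eq_one])]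
    exact Submonoid.pow_mem _ hg _

include hT in
theorem mem_sub {g : G} : g ∈ sub Mo D ↔ ∃ e, D.T.look (Mo.cd g) = some e := by
  simp only [treeOk, Bool.and_eq_true, List.all_eq_true, beq_iff_eq] at hT
  obtain ⟨⟨⟨-, h1⟩, -⟩, hmul⟩ := hT
  constructor
  · intro hg
    refine Submonoid.closure_induction (motive := fun x _ => ∃ e, D.T.look (Mo.cd x) = some e)
      (fun x hx => Option.isSome_iff_exists.1 hx) ⟨0, by rw [Mo.cd_one]; exact h1⟩ ?_ hg
    rintro a b - - ⟨ea, ha⟩ ⟨eb, hb⟩
    exact ⟨_, by rw [Mo.cd_mul]; exact hmul _ (BT.mem_of_look ha) _ (BT.mem_of_look hb)⟩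
  · rintro ⟨e, he⟩
    exact Submonoid.subset_closure (Option.isSome_iff_exists.2 ⟨e, he⟩)

include hT in
theorem look_eq (h : sub Mo D) :
    D.T.look (Mo.cd (h : G)) = some ((D.T.look (Mo.cd (h : G))).getD 0) := by
  obtain ⟨e, he⟩ := (mem_sub Mo hT).1 h.2
  rw [he]; rfl

/-- The linear character. -/
noncomputable def lam : sub Mo D →* ℂ where
  toFun h := ζ ^ (D.mult * (D.T.look (Mo.cd (h : G))).getD 0)
  map_one' := by
    have hT' := hT
    simp only [treeOk, Bool.and_eq_true, beq_iff_eq] at hT'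
    simp [Mo.cd_one, hT'.1.1.2]
  map_mul' a b := by
    have hT' := hT
    simp only [treeOk, Bool.and_eq_true, List.all_eq_true, beq_iff_eq] at hT'
    have := hT'.2 _ (BT.mem_of_look (look_eq Mo hT a)) _ (BT.mem_of_look (look_eq Mo hT b))
    rw [Subgroup.coe_mul, Mo.cd_mul, this, Option.getD_some, ζ_mod (D.mult * _), Nat.mul_mod,
      Nat.mod_mod, ← Nat.mul_mod, ← ζ_mod, mul_add, pow_add]

include hT in
theorem extend_lam (g : G) :
    extendByZero (sub Mo D) (lam Mo hT) g = val D (Mo.cd g) := by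
  by_cases hg : g ∈ sub Mo D
  · rw [extendByZero_of_mem _ _ hg, val, look_eq Mo hT ⟨g, hg⟩]
    rfl
  · rw [extendByZero_of_not_mem _ _ hg, val]
    cases h : D.T.look (Mo.cd g) with
    | none => rfl
    | some e => exact absurd ((mem_sub Mo hT).2 ⟨e, h⟩) hg

include hT in
/-- Summation over the subgroup. -/
theorem sum_sub (F : ℕ → ℕ → ℂ) [Fintype (sub Mo D)] :
    ∑ h : sub Mo D, F (Mo.cd (h : G)) ((D.T.look (Mo.cd (h : G))).getD 0) =
      (D.T.elems.map fun a => F a.1 a.2).sum := by
  have hT' := hT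
  simp only [treeOk, Bool.and_eq_true, List.all_eq_true, beq_iff_eq] at hT'
  obtain ⟨⟨⟨hinc, -⟩, hval⟩, -⟩ := hT'
  have hnd : D.T.elems.Nodup :=
    List.Nodup.of_map _ ((incr_pairwise hinc).imp fun h => h.ne)
  rw [← List.sum_toFinset _ hnd]
  refine Finset.sum_bij (fun h _ => (Mo.cd (h : G), (D.T.look (Mo.cd (h : G))).getD 0)) ?_ ?_ ?_ ?_
  · exact fun h _ => List.mem_toFinset.2 (BT.mem_of_look (look_eq Mo hT h))
  · exact fun a _ b _ h => Subtype.ext (Mo.inj (Prod.ext_iff.1 h).1)
  · intro a ha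
    obtain ⟨hv, hl⟩ := hval a (List.mem_toFinset.1 ha)
    obtain ⟨g, hg⟩ := Mo.exists_valid _ hv
    refine ⟨⟨g, (mem_sub Mo hT).2 ⟨a.2, by rw [hg, hl]⟩⟩, Finset.mem_univ _, ?_⟩
    exact Prod.ext hg (by simp [hg, hl])
  · exact fun h _ => rfl

include hT in
theorem card_sub : Nat.card (sub Mo D) = D.T.elems.length := by
  classical
  haveI := Fintype.ofFinite (sub Mo D)
  have h := sum_sub Mo hT fun _ _ => (1 : ℂ)
  simp only [Finset.sum_const, Finset.card_univ, nsmul_eq_mul, mul_one] at h
  rw [← Nat.card_eq_fintype_card, List.map_const', List.sum_replicate, nsmul_eq_mul, mul_one] at h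
  exact_mod_cast h

variable (htr : transOk Mo.op Mo.one Mo.valid (Nat.card G) D.T D.tr = true)

include hT htr in
theorem index_sub : (sub Mo D).index = D.tr.length := by
  simp only [transOk, Bool.and_eq_true, Nat.beq_eq] at htr
  have h1 := (sub Mo D).index_mul_card
  rw [card_sub Mo hT, ← htr.1.2] at h1
  refine Nat.eq_of_mul_eq_mul_right ?_ h1
  rw [← card_sub Mo hT]
  exact Nat.card_pos

include hT htr in
/-- The induced character through the transversal. -/
theorem ind_apply (g : G) :
    indFun (sub Mo D) (lam Mo hT) g =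
      (D.tr.map fun r => val D (Mo.op (Mo.op r.2.2 (Mo.cd g)) r.2.1)).sum := by
  classical
  haveI := Fintype.ofFinite (sub Mo D)
  have htr' := htr
  simp only [transOk, Bool.and_eq_true, List.all_eq_true, Nat.beq_eq, Nat.ble_eq] at htr'
  obtain ⟨⟨hinc, hlen⟩, hall⟩ := htr'
  have hh : ∀ i : Fin D.tr.length, ∃ t : G, Mo.cd t = D.tr[i].2.1 ∧ Mo.cd t⁻¹ = D.tr[i].2.2 ∧
      ∃ h : sub Mo D, Mo.cd (t * h) = D.tr[i].1 := by
    intro i
    obtain ⟨⟨⟨⟨⟨v1, v2⟩, v3⟩, hinv⟩, hw⟩, -⟩ := hall D.tr[i] (List.getElem_mem _)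
    obtain ⟨t, ht⟩ := Mo.exists_valid _ v2
    obtain ⟨u, hu⟩ := Mo.exists_valid _ v3
    obtain ⟨w, hw'⟩ := Mo.exists_valid _ v1
    have hut : u * t = 1 := Mo.inj (by rw [Mo.cd_mul, hu, ht, hinv, Mo.cd_one])
    obtain rfl : u = t⁻¹ := eq_inv_of_mul_eq_one_left hut
    refine ⟨t, ht, hu, ⟨t⁻¹ * w, (mem_sub Mo hT).2 (Option.isSome_iff_exists.1 ?_)⟩, ?_⟩
    · rw [Mo.cd_mul, hu, hw']; exact hw
    · rw [Subgroup.coe_mk, mul_inv_cancel_left, hw']
  choose t ht hti w hw using hh
  let Φ : Fin D.tr.length × sub Mo D → G := fun p => t p.1 * p.2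
  have hle : ∀ i (h : sub Mo D), D.tr[i].1 ≤ Mo.cd (t i * h) := fun i h => by
    rw [Mo.cd_mul, ht]
    exact (hall D.tr[i] (List.getElem_mem _)).2 _ (BT.mem_of_look (look_eq Mo hT h))
  have hΦi : Function.Injective Φ := by
    rintro ⟨i, h⟩ ⟨j, k⟩ he
    simp only [Φ] at he
    have hij : i = j := by
      have e1 : t i * (w i : G) = t j * ((k * h⁻¹ * w i : sub Mo D) : G) := by
        rw [Subgroup.coe_mul, Subgroup.coe_mul, Subgroup.coe_inv, ← mul_assoc, ← mul_assoc, ← he]
        group
      have e2 : t j * (w j : G) = t i * ((h * k⁻¹ * w j : sub Mo D) : G) := by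
        rw [Subgroup.coe_mul, Subgroup.coe_mul, Subgroup.coe_inv, ← mul_assoc, ← mul_assoc, he]
        group
      have l1 := hle j (k * h⁻¹ * w i)
      have l2 := hle i (h * k⁻¹ * w j)
      rw [← e1, hw] at l1
      rw [← e2, hw] at l2
      have hnd : (D.tr.map Prod.fst).Nodup := (incr_pairwise hinc).imp fun h => h.ne
      have e3 := (hnd.getElem_inj_iff (i := i.val) (hi := by simp) (j := j.val) (hj := by simp)).1
        (by simpa using le_antisymm l2 l1)
      exact Fin.ext e3
    subst hij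
    exact Prod.ext rfl (Subtype.ext (mul_left_cancel he))
  have hΦ : Function.Bijective Φ := by
    rw [Fintype.bijective_iff_injective_and_card]
    refine ⟨hΦi, ?_⟩
    rw [Fintype.card_prod, Fintype.card_fin, ← Nat.card_eq_fintype_card, card_sub Mo hT,
      ← Nat.card_eq_fintype_card, hlen]
  have key : ∀ i (h : sub Mo D),
      extendByZero (sub Mo D) (lam Mo hT) ((Φ (i, h))⁻¹ * g * Φ (i, h)) =
        val D (Mo.op (Mo.op D.tr[i].2.2 (Mo.cd g)) D.tr[i].2.1) := by
    intro i h
    rw [← hti, ← ht, ← Mo.cd_mul, ← Mo.cd_mul, ← extend_lam Mo hT]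
    have e : (Φ (i, h))⁻¹ * g * Φ (i, h) = (h : G)⁻¹ * ((t i)⁻¹ * g * t i) * h := by
      simp only [Φ]; group
    rw [e]
    by_cases hm : (t i)⁻¹ * g * t i ∈ sub Mo D
    · have hm' := mul_mem (mul_mem (inv_mem h.2) hm) h.2
      rw [extendByZero_of_mem _ _ hm, extendByZero_of_mem _ _ hm']
      show lam Mo hT (h⁻¹ * ⟨_, hm⟩ * h) = _
      rw [map_mul, map_mul, mul_comm (lam Mo hT h⁻¹), mul_assoc, ← map_mul, inv_mul_cancel,
        map_one, mul_one]
    · rw [extendByZero_of_not_mem _ _ hm, extendByZero_of_not_mem]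
      intro hm'
      have := mul_mem (mul_mem h.2 hm') (inv_mem h.2)
      exact hm (by simpa [mul_assoc] using this)
  rw [indFun_apply, ← Fintype.sum_bijective Φ hΦ _ _ fun p => rfl, Fintype.sum_prod_type]
  simp only [key, Finset.sum_const, Finset.card_univ, nsmul_eq_mul]
  rw [← Nat.card_eq_fintype_card, ← Finset.mul_sum, inv_mul_cancel_left₀ natCard_ne_zero_complex,
    ← List.sum_ofFn]
  congr 1
  apply List.ext_getElem <;> simp

variable {D' : Datum} (hT' : treeOk Mo.op Mo.one Mo.valid D'.T = true)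
  (htr' : transOk Mo.op Mo.one Mo.valid (Nat.card G) D'.T D'.tr = true)

include htr' in
/-- The certified inner product. -/
theorem inner_eq {n : ℤ} (h : ipOk Mo.op D D' n = true) :
    classInner (indFun (sub Mo D) (lam Mo hT)) (indFun (sub Mo D') (lam Mo hT')) =
      n := by
  classical
  haveI := Fintype.ofFinite (sub Mo D)
  have hs := sum_eq_of_sumIs h
  rw [sum_ipList, ← sum_sub Mo hT fun k e => ζ ^ (D.mult * e) *
    conj ((D'.tr.map fun r => val D' (Mo.op (Mo.op r.2.2 k) r.2.1)).sum)] at hs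
  simp only [← ind_apply Mo hT' htr'] at hs
  rw [classInner_indFun _ _ (isClassFunction_indFun _ _), classInner, ← card_sub Mo hT] at *
  rw [show (∑ h : sub Mo D, lam Mo hT h *
    conj (indFun (sub Mo D') (lam Mo hT') (h : G))) = _ from hs]
  push_cast
  rw [← mul_assoc, mul_comm ((Nat.card _ : ℂ)⁻¹), mul_assoc,
    inv_mul_cancel₀ natCard_ne_zero_complex, mul_one]

include Mo in
/-- An integral combination of monomial characters of norm one and positive degree is
irreducible. -/
theorem exists_irr {m : ℕ} (D : Fin m → Datum)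
    (hT : ∀ i, treeOk Mo.op Mo.one Mo.valid (D i).T = true)
    (htr : ∀ i, transOk Mo.op Mo.one Mo.valid (Nat.card G) (D i).T (D i).tr = true)
    (n : Fin m → Fin m → ℤ) (hsymm : ∀ i j, n i j = n j i)
    (hn : ∀ i j, i ≤ j → ipOk Mo.op (D i) (D j) (n i j) = true)
    (c : Fin m → ℤ) (d : ℕ) (hd : 0 < d)
    (hnorm : ∑ i, ∑ j, c i * c j * n i j = 1)
    (hdeg : ∑ i, c i * ((D i).tr.length : ℤ) = d) :
    ∃ χ : IrrCharacter G, charDegree (χ : G → ℂ) = d := by
  classical
  let f : Fin m → G → ℂ := fun i => indFun (sub Mo (D i)) (lam Mo (hT i))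
  let θ : G → ℂ := ∑ i, (c i : ℂ) • f i
  have hgen : IsGeneralizedCharacter G θ := IsGeneralizedCharacter.sum _ fun i _ =>
    IsGeneralizedCharacter.intCast_smul (IsGeneralizedCharacter.indFun _
      (IsCharacter.isGeneralizedCharacter (IsIrrCharacter.isCharacter
        (isIrrCharacter_monoidHom _)))) _
  have hf : ∀ i j, classInner (f i) (f j) = (n i j : ℂ) := by
    intro i j
    rcases le_total i j with hij | hij
    · exact inner_eq Mo (hT i) (hT j) (htr j) (hn i j hij)
    · rw [← classInner_conj_symm, inner_eq Mo (hT j) (hT i) (htr i) (hn j i hij), map_intCast,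
        hsymm]
  have h1 : classInner θ θ = 1 := by
    simp only [θ, classInner_sum_left, classInner_sum_right, classInner_smul_left,
      classInner_smul_right, hf, map_intCast]
    have := congrArg (Int.cast : ℤ → ℂ) hnorm
    push_cast at this
    rw [← this]
    simp only [Finset.mul_sum, mul_assoc]
    refine Finset.sum_congr rfl fun x _ => Finset.sum_congr rfl fun y _ => ?_
    rw [hsymm]
  have h0 : θ 1 = (d : ℂ) := by
    have := congrArg (Int.cast : ℤ → ℂ) hdeg
    push_cast at this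
    rw [← this]
    simp only [θ, f, Finset.sum_apply, Pi.smul_apply, smul_eq_mul, indFun_one, map_one, mul_one]
    exact Finset.sum_congr rfl fun i _ => by rw [index_sub Mo (hT i) (htr i)]
  refine ⟨⟨θ, Cfsg.Agent.Lib.Perm.TwoRowChars.isIrr_of_norm hgen h1 hd h0⟩, ?_⟩
  exact Cfsg.Agent.Lib.BlockHeights.charDegree_of_apply_one h0

end Cfsg.Agent.Lib.SuThreeSpec.Monomial
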