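import Cfsg.Agent.Lib.SuThreeSpec.MonomialData
import Cfsg.Agent.Lib.SuThreeSpec.Code

/-!
# The kernel check of the monomial data
-/

set_option autoImplicit false

namespace Cfsg.Agent.Lib.SuThreeSpec.Monomial

/-- Encoding. -/
def encK (M : M9) : ℕ :=
  M.x.a + 9 * (M.x.b + 9 * (M.x.c + 9 * (M.y.a + 9 * (M.y.b + 9 * (M.y.c +
    9 * (M.z.a + 9 * (M.z.b + 9 * M.z.c)))))))

/-- Decoding. -/
def decK (k : ℕ) : M9 :=
  ⟨⟨k % 9, k / 9 % 9, k / 81 % 9⟩, ⟨k / 729 % 9, k / 6561 % 9, k / 59049 % 9⟩,
    ⟨k / 531441 % 9, k / 4782969 % 9, k / 43046721 % 9⟩⟩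

/-- Product of codes. -/
def opK (k l : ℕ) : ℕ := encK (mm (decK k) (decK l))

/-- Codes of group elements. -/
def validK (k : ℕ) : Bool := isIso (decK k) && Nat.beq (encK (decK k)) k

/-- The code of the identity. -/
def oneK : ℕ := encK ⟨⟨1, 0, 0⟩, ⟨0, 1, 0⟩, ⟨0, 0, 1⟩⟩

theorem tree0_ok : treeOk opK oneK validK tree0 = true := by decide +kernel
theorem tree1_ok : treeOk opK oneK validK tree1 = true := by decide +kernel
theorem tree2_ok : treeOk opK oneK validK tree2 = true := by decide +kernel
theorem tree3_ok : treeOk opK oneK validK tree3 = true := by decide +kernel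
theorem tree4_ok : treeOk opK oneK validK tree4 = true := by decide +kernel

theorem trans0_ok : transOk opK oneK validK 6048 tree0 trans0 = true := by decide +kernel
theorem trans1_ok : transOk opK oneK validK 6048 tree1 trans1 = true := by decide +kernel
theorem trans2_ok : transOk opK oneK validK 6048 tree2 trans2 = true := by decide +kernel
theorem trans3_ok : transOk opK oneK validK 6048 tree3 trans3 = true := by decide +kernel
theorem trans4_ok : transOk opK oneK validK 6048 tree4 trans4 = true := by decide +kernel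

theorem gram_ok : ((List.finRange 8).all fun i => (List.finRange 8).all fun j =>
    !decide (i ≤ j) || ipOk opK (data i) (data j) (gram i j)) = true := by decide +kernel

end Cfsg.Agent.Lib.SuThreeSpec.Monomial
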