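import Mathlib

/-!
# A solvable group with element orders `1, 2, 3, 4, 6, 7, 8, 12`

The extension of a four-dimensional space over `ZMod 7` by a fixed point free `C₃ ⋊ C₈`.
-/

set_option autoImplicit false

namespace Cfsg.Agent.Lib.SuThreeSpec

/-- The space. -/
abbrev V7 : Type := Fin 4 → ZMod 7

/-- The action of the generator of order eight on that of order three. -/
def invHom : Multiplicative (ZMod 8) →* MulAut (Multiplicative (ZMod 3)) where
  toFun t := if t.toAdd.val % 2 = 0 then 1 else MulEquiv.inv (Multiplicative (ZMod 3))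
  map_one' := rfl
  map_mul' s t := by
    refine MulEquiv.ext fun v => ?_
    revert v t s
    decide +kernel

/-- The complement. -/
abbrev Comp : Type := Multiplicative (ZMod 3) ⋊[invHom] Multiplicative (ZMod 8)

/-- The matrix of the generator of order three. -/
def matA : Matrix (Fin 4) (Fin 4) (ZMod 7) := !![2,0,0,0; 0,2,0,0; 0,0,4,0; 0,0,0,4]

/-- The matrix of the generator of order eight. -/
def matC : Matrix (Fin 4) (Fin 4) (ZMod 7) := !![0,0,0,-1; 0,0,1,0; 1,0,0,0; 0,1,0,0]

/-- The matrix of an element of the complement. -/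
def compMat (k : Comp) : Matrix (Fin 4) (Fin 4) (ZMod 7) :=
  matA ^ k.left.toAdd.val * matC ^ k.right.toAdd.val

/-- All elements of the complement. -/
def compList : List Comp :=
  (List.finRange 3).flatMap fun a => (List.finRange 8).map fun b =>
    ⟨Multiplicative.ofAdd (a : ZMod 3), Multiplicative.ofAdd (b : ZMod 8)⟩

theorem mem_compList (k : Comp) : k ∈ compList :=
  List.mem_flatMap.2 ⟨k.left.toAdd, List.mem_finRange _,
    List.mem_map.2 ⟨k.right.toAdd, List.mem_finRange _, rfl⟩⟩

theorem compMat_table :
    (compList.all fun k => compList.all fun l =>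
      decide (compMat (k * l) = compMat k * compMat l)) = true := by
  decide +kernel

theorem compMat_mul (k l : Comp) : compMat (k * l) = compMat k * compMat l := by
  have h := compMat_table
  simp only [List.all_eq_true, decide_eq_true_eq] at h
  exact h k (mem_compList k) l (mem_compList l)

theorem compMat_one : compMat 1 = 1 := by decide +kernel

/-- An invertible matrix as an automorphism of the space. -/
def linAct (u : (Matrix (Fin 4) (Fin 4) (ZMod 7))ˣ) : MulAut (Multiplicative V7) where
  toFun v := Multiplicative.ofAdd ((u : Matrix (Fin 4) (Fin 4) (ZMod 7)).mulVec v.toAdd)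
  invFun v := Multiplicative.ofAdd ((↑u⁻¹ : Matrix (Fin 4) (Fin 4) (ZMod 7)).mulVec v.toAdd)
  left_inv v := by simp [Matrix.mulVec_mulVec]
  right_inv v := by simp [Matrix.mulVec_mulVec]
  map_mul' v w := by simp [Matrix.mulVec_add]

/-- The matrices as a homomorphism. -/
def compUnits : Comp →* (Matrix (Fin 4) (Fin 4) (ZMod 7))ˣ :=
  MonoidHom.toHomUnits
    { toFun := compMat
      map_one' := compMat_one
      map_mul' := compMat_mul }

/-- The complement as automorphisms of the space. -/
def compHom : Comp →* MulAut (Multiplicative V7) where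
  toFun k := linAct (compUnits k)
  map_one' := MulEquiv.ext fun v => by
    show Multiplicative.ofAdd ((compMat 1).mulVec v.toAdd) = v
    rw [compMat_one, Matrix.one_mulVec]; rfl
  map_mul' k l := MulEquiv.ext fun v => by
    show Multiplicative.ofAdd ((compMat (k * l)).mulVec v.toAdd) = _
    rw [compMat_mul, ← Matrix.mulVec_mulVec]; rfl

/-- The group. -/
abbrev Twin : Type := Multiplicative V7 ⋊[compHom] Comp

theorem compHom_apply (k : Comp) (v : Multiplicative V7) :
    compHom k v = Multiplicative.ofAdd ((compMat k).mulVec v.toAdd) := rfl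

theorem compMat_det_ne : (compList.all fun k =>
    decide (k = 1) || decide ((compMat k - 1).det ≠ 0)) = true := by
  decide +kernel

theorem comp_orders : (compList.all fun k =>
    decide (k ^ 8 = 1) || decide (k ^ 12 = 1)) = true := by
  decide +kernel

noncomputable instance : Finite Comp := Finite.of_equiv _ SemidirectProduct.equivProd.symm

theorem isSolvable_twin : Group.IsSolvable Twin := by
  haveI : Group.IsSolvable Comp :=
    Group.isSolvable_of_ker_le_range (SemidirectProduct.inl : _ →* Comp) SemidirectProduct.rightHom
      (SemidirectProduct.range_inl_eq_ker_rightHom).ge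
  exact Group.isSolvable_of_ker_le_range (SemidirectProduct.inl : _ →* Twin) SemidirectProduct.rightHom
    (SemidirectProduct.range_inl_eq_ker_rightHom).ge

instance : Fact (Nat.Prime 7) := ⟨by norm_num⟩

theorem twin_order_spec (g : Twin) : g ^ 7 = 1 ∨ g ^ 8 = 1 ∨ g ^ 12 = 1 := by
  by_cases hk : g.right = 1
  · refine Or.inl ?_
    obtain ⟨v, k⟩ := g
    obtain rfl : k = 1 := hk
    rw [show (⟨v, 1⟩ : Twin) = SemidirectProduct.inl v from rfl, ← map_pow, show v ^ 7 = 1 from ?_,
      map_one]
    apply Multiplicative.toAdd.injective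
    funext i
    simp only [toAdd_pow, toAdd_one, Pi.smul_apply, Pi.zero_apply, nsmul_eq_mul]
    rw [show ((7 : ℕ) : ZMod 7) = 0 from rfl, zero_mul]
  · right
    have hdet := compMat_det_ne
    simp only [List.all_eq_true, Bool.or_eq_true, decide_eq_true_eq] at hdet
    have hd := (hdet g.right (mem_compList _)).resolve_left hk
    have key : ∀ m : ℕ, g.right ^ m = 1 → g ^ m = 1 := by
      intro m hm
      have hr : (g ^ m).right = 1 := by
        rw [← SemidirectProduct.rightHom_eq_right, map_pow]
        exact hm
      refine SemidirectProduct.ext ?_ (by rw [hr]; rfl)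
      have hc : g * g ^ m = g ^ m * g := (pow_mul_comm' g m).symm
      have hl := congrArg SemidirectProduct.left hc
      simp only [SemidirectProduct.mul_left, hr, map_one, MulAut.one_apply] at hl
      rw [mul_comm] at hl
      have hfix := mul_right_cancel hl
      rw [compHom_apply] at hfix
      have hv : (compMat g.right - 1).mulVec (g ^ m).left.toAdd = 0 := by
        rw [Matrix.sub_mulVec, Matrix.one_mulVec, sub_eq_zero]
        exact congrArg Multiplicative.toAdd hfix
      apply Multiplicative.toAdd.injective
      exact Matrix.eq_zero_of_mulVec_eq_zero hd hv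
    have ho := comp_orders
    simp only [List.all_eq_true, Bool.or_eq_true, decide_eq_true_eq] at ho
    exact (ho g.right (mem_compList _)).imp (key 8) (key 12)

theorem twin_witness :
    (∃ g : Twin, orderOf g = 7) ∧ (∃ g : Twin, orderOf g = 8) ∧ ∃ g : Twin, orderOf g = 12 := by
  have h : ∀ k : Comp, orderOf (SemidirectProduct.inr k : Twin) = orderOf k :=
    orderOf_injective SemidirectProduct.inr SemidirectProduct.inr_injective
  refine ⟨⟨SemidirectProduct.inl (Multiplicative.ofAdd ![1, 0, 0, 0]), ?_⟩,
    ⟨SemidirectProduct.inr ⟨1, Multiplicative.ofAdd 1⟩, ?_⟩,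
    ⟨SemidirectProduct.inr ⟨Multiplicative.ofAdd 1, Multiplicative.ofAdd 2⟩, ?_⟩⟩
  · rw [orderOf_injective SemidirectProduct.inl SemidirectProduct.inl_injective]
    refine orderOf_eq_prime (hp := ⟨by norm_num⟩) ?_ (by decide)
    decide
  · rw [h, orderOf_eq_iff (by norm_num)]
    decide +kernel
  · rw [h, orderOf_eq_iff (by norm_num)]
    decide +kernel

end Cfsg.Agent.Lib.SuThreeSpec
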